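import Groth.Agent.FunMorFP.FPBasic
import Mathlib.CategoryTheory.Functor.KanExtension.Pointwise
import Mathlib.CategoryTheory.Limits.Constructions.Filtered
import Mathlib.CategoryTheory.Preadditive.LeftExact
import Mathlib.CategoryTheory.Preadditive.AdditiveFunctor
import Mathlib.CategoryTheory.Limits.Preserves.Shapes.Kernels
import Mathlib.LinearAlgebra.StdBasis

/-!
# Functors on modules commuting with filtered colimits

They are the pointwise left Kan extensions of their restrictions to finitely presented modules.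
-/

set_option autoImplicit false
set_option linter.style.haveILetI false

universe u v v' u'

open CategoryTheory Limits

namespace Groth.FunMorFP

section General

variable {A : Type u} [CommRing A] {B : Type u'} [Category.{v'} B]

noncomputable instance hasColimitsOfShape_costructuredArrow [HasFilteredColimitsOfSize.{u, u} B]
    (M : ModuleCat.{u} A) : HasColimitsOfShape (CostructuredArrow (fpProp A).ι M) B :=
  haveI : IsFiltered (SmallModel.{u} (CostructuredArrow (fpProp A).ι M)) :=
    IsFiltered.of_equivalence (equivSmallModel _)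
  hasColimitsOfShape_of_equivalence (equivSmallModel _).symm

variable (F' : ModuleCat.{u} A ⥤ B) [PreservesFilteredColimitsOfSize.{u, u} F']

noncomputable instance preservesColimitsOfShape_costructuredArrow (M : ModuleCat.{u} A) :
    PreservesColimitsOfShape (CostructuredArrow (fpProp A).ι M) F' :=
  haveI : IsFiltered (SmallModel.{u} (CostructuredArrow (fpProp A).ι M)) :=
    IsFiltered.of_equivalence (equivSmallModel _)
  preservesColimitsOfShape_of_equiv (equivSmallModel _).symm F'

/-- A functor commuting with filtered colimits is the Kan extension of its restriction. -/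
noncomputable def isPointwise :
    (Functor.LeftExtension.mk F' (𝟙 ((fpProp A).ι ⋙ F'))).IsPointwiseLeftKanExtension := fun M =>
  (isColimitOfPreserves F' (isDenseAt_ι M).some).ofIsoColimit (Cocone.ext (Iso.refl _) fun j => by
    show F'.map (𝟙 _ ≫ j.hom) ≫ 𝟙 _ = 𝟙 _ ≫ F'.map j.hom
    simp)

/-- Maps out of `F'(M)` are tested on finitely presented modules over `M`. -/
theorem hom_ext_fp {M : ModuleCat.{u} A} {T : B} {g g' : F'.obj M ⟶ T}
    (h : ∀ (P : (fpProp A).FullSubcategory) (p : P.obj ⟶ M), F'.map p ≫ g = F'.map p ≫ g') :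
    g = g' :=
  (isPointwise F' M).hom_ext fun j => by
    show (𝟙 _ ≫ F'.map j.hom) ≫ g = (𝟙 _ ≫ F'.map j.hom) ≫ g'
    rw [Category.id_comp]
    exact h j.left j.hom

/-- Two functors commuting with filtered colimits agreeing on finitely presented modules agree. -/
noncomputable def extIso (F₁ F₂ : ModuleCat.{u} A ⥤ B) [PreservesFilteredColimitsOfSize.{u, u} F₁]
    [PreservesFilteredColimitsOfSize.{u, u} F₂] (e : (fpProp A).ι ⋙ F₁ ≅ (fpProp A).ι ⋙ F₂) :
    F₁ ≅ F₂ :=
  haveI : F₁.IsLeftKanExtension (𝟙 ((fpProp A).ι ⋙ F₁)) := (isPointwise F₁).isLeftKanExtension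
  haveI : F₂.IsLeftKanExtension (𝟙 ((fpProp A).ι ⋙ F₂)) := (isPointwise F₂).isLeftKanExtension
  Functor.leftKanExtensionUniqueOfIso F₁ (𝟙 ((fpProp A).ι ⋙ F₁)) e F₂ (𝟙 ((fpProp A).ι ⋙ F₂))

end General

section Existence

variable {A : Type u} [CommRing A] {B : Type u'} [Category.{v'} B] [HasFilteredColimitsOfSize.{u, u} B]
  (F : (fpProp A).FullSubcategory ⥤ B)

/-- The extension of a functor on finitely presented modules. -/
noncomputable abbrev extension : ModuleCat.{u} A ⥤ B :=
  (fpProp A).ι.pointwiseLeftKanExtension F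

/-- The coprojection. -/
noncomputable abbrev extι {M : ModuleCat.{u} A} (P : (fpProp A).FullSubcategory) (p : P.obj ⟶ M) :
    F.obj P ⟶ (extension F).obj M :=
  colimit.ι (CostructuredArrow.proj (fpProp A).ι M ⋙ F) (arrow P p)

lemma extι_map {M N : ModuleCat.{u} A} (P : (fpProp A).FullSubcategory) (p : P.obj ⟶ M) (f : M ⟶ N) :
    extι F P p ≫ (extension F).map f = extι F P (p ≫ f) := by
  simp only [extι, extension, Functor.pointwiseLeftKanExtension_map]
  exact colimit.ι_desc _ _

variable {J : Type u} [SmallCategory J] [IsFiltered J] {D : J ⥤ ModuleCat.{u} A}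

lemma ι_app_eq_of_fac {c : Cocone D} (hc : IsColimit c) (s : Cocone (D ⋙ extension F))
    (P : (fpProp A).FullSubcategory) {k k' : J} (a : P.obj ⟶ D.obj k) (a' : P.obj ⟶ D.obj k')
    (h : a ≫ c.ι.app k = a' ≫ c.ι.app k') :
    extι F P a ≫ s.ι.app k = extι F P a' ≫ s.ι.app k' := by
  haveI : Module.FinitePresentation A P.obj := P.property
  obtain ⟨m, f, f', -⟩ := IsFilteredOrEmpty.cocone_objs k k'
  obtain ⟨l, g, hg⟩ := exists_stage_eq hc (a ≫ D.map f) (a' ≫ D.map f') (by simpa using h)
  rw [← s.w (f ≫ g), ← s.w (f' ≫ g)]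
  show extι F P a ≫ (extension F).map (D.map (f ≫ g)) ≫ _ = extι F P a' ≫ (extension F).map (D.map (f' ≫ g)) ≫ _
  rw [← Category.assoc, ← Category.assoc (extι F P a'), extι_map, extι_map, D.map_comp, D.map_comp,
    ← Category.assoc, ← Category.assoc, hg]

/-- The extension commutes with filtered colimits. -/
theorem isColimit_extension_mapCocone {c : Cocone D} (hc : IsColimit c) :
    Nonempty (IsColimit ((extension F).mapCocone c)) := by
  have hfac := fun (j : CostructuredArrow (fpProp A).ι c.pt) =>
    haveI : Module.FinitePresentation A j.left.obj := j.left.property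
    exists_stage_fac hc (M := j.left.obj) j.hom
  choose k a ha using hfac
  let desc (s : Cocone (D ⋙ extension F)) : (extension F).obj c.pt ⟶ s.pt :=
    colimit.desc (CostructuredArrow.proj (fpProp A).ι c.pt ⋙ F)
      { pt := s.pt
        ι :=
          { app := fun j => extι F j.left (a j) ≫ s.ι.app (k j)
            naturality := fun i j φ => by
              dsimp
              rw [Category.comp_id, ← Category.assoc]
              have h1 : F.map φ.left ≫ extι F j.left (a j) = extι F i.left (φ.left.hom ≫ a j) :=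
                colimit.w (CostructuredArrow.proj (fpProp A).ι (D.obj (k j)) ⋙ F)
                  (CostructuredArrow.homMk φ.left : arrow i.left (φ.left.hom ≫ a j) ⟶ arrow j.left (a j))
              refine (congrArg (· ≫ s.ι.app (k j)) h1).trans ?_
              exact ι_app_eq_of_fac F hc s i.left _ _ (by
                rw [Category.assoc, ha, ha]; exact CostructuredArrow.w φ) } }
  refine ⟨{ desc := desc, fac := fun s i => colimit.hom_ext fun j => ?_, uniq := fun s m hm => (colimit.isColimit (CostructuredArrow.proj (fpProp A).ι c.pt ⋙ F)).hom_ext fun j => ?_ }⟩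
  · show extι F j.left j.hom ≫ (extension F).map (c.ι.app i) ≫ desc s = extι F j.left j.hom ≫ s.ι.app i
    rw [← Category.assoc, extι_map]
    exact (colimit.ι_desc _ _).trans (ι_app_eq_of_fac F hc s j.left _ _ (ha _))
  · show extι F j.left j.hom ≫ m = extι F j.left j.hom ≫ desc s
    have hd : extι F j.left j.hom ≫ desc s = extι F j.left (a j) ≫ s.ι.app (k j) := colimit.ι_desc _ _
    refine Eq.trans ?_ hd.symm
    rw [← ha j, ← extι_map, Category.assoc]
    exact congrArg _ (hm (k j))

instance extension_preservesFilteredColimits : PreservesFilteredColimitsOfSize.{u, u} (extension F) :=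
  ⟨fun J _ _ => ⟨fun {D} => ⟨fun hc => isColimit_extension_mapCocone F hc⟩⟩⟩

/-- The extension restricts to the given functor. -/
noncomputable def extensionIso : (fpProp A).ι ⋙ extension F ≅ F :=
  haveI : IsIso ((fpProp A).ι.pointwiseLeftKanExtensionUnit F) :=
    ((fpProp A).ι.pointwiseLeftKanExtensionIsPointwiseLeftKanExtension F).isIso_hom
  (asIso ((fpProp A).ι.pointwiseLeftKanExtensionUnit F)).symm

end Existence

section Additive

variable {A : Type u} [CommRing A] {B : Type u'} [Category.{v'} B] [Preadditive B]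
  (F' : ModuleCat.{u} A ⥤ B) [PreservesFilteredColimitsOfSize.{u, u} F']

/-- The extension of an additive functor is additive. -/
theorem additive_of_additive_on_fp [hadd : ((fpProp A).ι ⋙ F').Additive] : F'.Additive := by
  refine ⟨fun {M N f g} => hom_ext_fp F' fun P p => ?_⟩
  obtain ⟨q, a, b, -⟩ := IsFilteredOrEmpty.cocone_objs (arrow P (p ≫ f)) (arrow P (p ≫ g))
  have ha : a.left.hom ≫ q.hom = p ≫ f := CostructuredArrow.w a
  have hb : b.left.hom ≫ q.hom = p ≫ g := CostructuredArrow.w b
  let a' : P ⟶ q.left := a.left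
  let b' : P ⟶ q.left := b.left
  have hab : F'.map (a' + b').hom = F'.map a'.hom + F'.map b'.hom :=
    ((fpProp A).ι ⋙ F').map_add
  rw [← F'.map_comp, Preadditive.comp_add, Preadditive.comp_add, ← F'.map_comp, ← F'.map_comp,
    show p ≫ f = a'.hom ≫ q.hom from ha.symm, show p ≫ g = b'.hom ≫ q.hom from hb.symm,
    F'.map_comp a'.hom, F'.map_comp b'.hom, ← Preadditive.add_comp,
    ← Preadditive.add_comp, ← hab, ← F'.map_comp]
  rfl

end Additive

section Coproducts

open CoproductsFromFiniteFiltered

universe w

variable {C : Type*} [Category C] {D : Type*} [Category D] (G : C ⥤ D) {α : Type w}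

/-- Coproducts are preserved if finite ones and filtered colimits are. -/
theorem preservesColimitsOfShape_discrete [HasFiniteCoproducts C] [HasColimitsOfShape (Discrete α) C]
    [HasColimitsOfShape (Finset (Discrete α)) C] [PreservesColimitsOfShape (Finset (Discrete α)) G]
    [PreservesFiniteCoproducts G] : PreservesColimitsOfShape (Discrete α) G := by
  suffices ∀ f : α → C, PreservesColimit (Discrete.functor f) G from preservesColimitsOfShape_of_discrete G
  intro f
  refine preservesColimit_of_preserves_colimit_cocone (coproductIsCoproduct f)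
    ((isColimitMapCoconeCofanMkEquiv G f (Sigma.ι f)).symm ?_)
  have hf := isColimitOfPreserves G (isColimitFiniteSubproductsCocone f)
  let g (S : Finset (Discrete α)) : S → C := fun x => f x.1.as
  have hS : ∀ S, IsColimit (Cofan.mk (G.obj (∐ g S)) fun x => G.map (Sigma.ι (g S) x)) := fun S =>
    haveI : PreservesColimitsOfShape (Discrete S) G := inferInstance
    isColimitOfHasCoproductOfPreservesColimit G (g S)
  let mp (S T : Finset (Discrete α)) (h : S ⟶ T) : ∐ g S ⟶ ∐ g T := (liftToFinsetObj (Discrete.functor f)).map h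
  let sub (S : Finset (Discrete α)) : ∐ g S ⟶ ∐ f := (finiteSubcoproductsCocone f).ι.app S
  have hmap : ∀ {S T : Finset (Discrete α)} (h : S ⟶ T) (x : S),
      Sigma.ι (g S) x ≫ mp S T h = Sigma.ι (g T) ⟨x.1, h.down.down x.2⟩ :=
    fun {S T} h x => Sigma.ι_desc _ _
  have hsub : ∀ (S : Finset (Discrete α)) (x : S),
      Sigma.ι (g S) x ≫ sub S = Sigma.ι f x.1.as := fun S x => Sigma.ι_desc _ _
  let part (T : D) (t : ∀ a : α, G.obj (f a) ⟶ T) (S : Finset (Discrete α)) : G.obj (∐ g S) ⟶ T :=
    Cofan.IsColimit.desc (hS S) fun x => t x.1.as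
  have hpart : ∀ (T : D) (t : ∀ a : α, G.obj (f a) ⟶ T) (S : Finset (Discrete α)) (x : S),
      G.map (Sigma.ι (g S) x) ≫ part T t S = t x.1.as := fun T t S x => Cofan.IsColimit.fac (hS S) _ x
  let cc (T : D) (t : ∀ a : α, G.obj (f a) ⟶ T) : Cocone (liftToFinsetObj (Discrete.functor f) ⋙ G) :=
    { pt := T
      ι :=
        { app := part T t
          naturality := fun S S' h => Cofan.IsColimit.hom_ext (hS S) _ _ fun x => by
            show G.map (Sigma.ι (g S) x) ≫ G.map (mp S S' h) ≫ part T t S' = G.map (Sigma.ι (g S) x) ≫ part T t S ≫ 𝟙 T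
            rw [Category.comp_id, hpart, ← Category.assoc, ← G.map_comp, hmap, hpart] } }
  have fac : ∀ (T : D) (t : ∀ a : α, G.obj (f a) ⟶ T) (a : α), G.map (Sigma.ι f a) ≫ hf.desc (cc T t) = t a := by
    intro T t a
    have hfac : G.map (sub {Discrete.mk a}) ≫ hf.desc (cc T t) = part T t {Discrete.mk a} := hf.fac (cc T t) _
    rw [← hsub {Discrete.mk a} ⟨Discrete.mk a, by simp⟩, G.map_comp, Category.assoc, hfac, hpart]
  refine Cofan.IsColimit.mk _ (fun s => hf.desc (cc s.pt s.inj)) (fun s a => fac s.pt s.inj a) fun s m hm =>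
    hf.hom_ext fun S => Cofan.IsColimit.hom_ext (hS S) _ _ fun x => ?_
  show G.map (Sigma.ι (g S) x) ≫ G.map (sub S) ≫ m = G.map (Sigma.ι (g S) x) ≫ G.map (sub S) ≫ hf.desc (cc s.pt s.inj)
  rw [← Category.assoc, ← G.map_comp, hsub]
  refine Eq.trans ?_ ((Category.assoc _ _ _).symm.trans ((congrArg (· ≫ hf.desc (cc s.pt s.inj))
    ((G.map_comp _ _).symm.trans (congrArg G.map (hsub S x)))).trans (fac _ _ _))).symm
  exact hm x.1.as

end Coproducts

end Groth.FunMorFP
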