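import Groth.Agent.FunMorFP.RightExactValue
import Mathlib.Algebra.Category.ModuleCat.FilteredColimits
import Mathlib.Algebra.Category.ModuleCat.Abelian
import Mathlib.CategoryTheory.Filtered.Final
import Mathlib.CategoryTheory.Functor.KanExtension.DenseAt
import Mathlib.CategoryTheory.Comma.StructuredArrow.Small
import Mathlib.CategoryTheory.Limits.Comma
import Mathlib.CategoryTheory.Limits.Preserves.Filtered
import Mathlib.CategoryTheory.ObjectProperty.Small

/-!
# Every module is a filtered colimit of finitely presented modules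

The full subcategory of finitely presented modules is dense with essentially small filtered comma
categories, and finitely presented modules map into filtered colimits through a stage.
-/

set_option autoImplicit false
set_option linter.style.haveILetI false

universe u v v' u'

open CategoryTheory Limits

namespace Groth.FunMorFP

variable (A : Type u) [CommRing A]

instance fp_hasFiniteColimits : HasFiniteColimits (fpProp A).FullSubcategory :=
  ⟨fun _ _ _ => inferInstance⟩

instance fp_preservesFiniteColimits_ι : PreservesFiniteColimits (fpProp A).ι :=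
  ⟨fun _ _ _ => inferInstance⟩

instance fp_hasFiniteBiproducts : HasFiniteBiproducts (fpProp A).FullSubcategory :=
  HasFiniteBiproducts.of_hasFiniteCoproducts

/-- The ring, as a finitely presented module. -/
abbrev ring : (fpProp A).FullSubcategory := ⟨ModuleCat.of A A, inferInstance⟩

instance fp_essentiallySmall : ObjectProperty.EssentiallySmall.{u} (fpProp A) where
  exists_small_le' := by
    refine ⟨ObjectProperty.ofObj fun x : Σ n : ℕ, Submodule A (Fin n → A) =>
      ModuleCat.of A ((Fin x.1 → A) ⧸ x.2), inferInstance, fun M hM => ?_⟩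
    haveI : Module.FinitePresentation A M := hM
    obtain ⟨n, N, e, -⟩ := Module.FinitePresentation.exists_fin A M
    exact ⟨_, ObjectProperty.ofObj_apply _ ⟨n, N⟩, ⟨LinearEquiv.toModuleIso e⟩⟩

instance costructuredArrow_isFiltered (M : ModuleCat.{u} A) :
    IsFiltered (CostructuredArrow (fpProp A).ι M) :=
  haveI : HasFiniteColimits (CostructuredArrow (fpProp A).ι M) := ⟨fun _ _ _ => inferInstance⟩
  IsFiltered.of_hasFiniteColimits _

instance costructuredArrow_essentiallySmall (M : ModuleCat.{u} A) :
    EssentiallySmall.{u} (CostructuredArrow (fpProp A).ι M) :=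
  inferInstance

variable {A}

/-- The object `P → M` of the comma category. -/
abbrev arrow {M : ModuleCat.{u} A} (P : (fpProp A).FullSubcategory) (p : P.obj ⟶ M) :
    CostructuredArrow (fpProp A).ι M :=
  CostructuredArrow.mk (Y := P) p

/-- `a ↦ a • x`. -/
abbrev pt {M : ModuleCat.{u} A} (x : M) : (ring A).obj ⟶ M :=
  ModuleCat.ofHom (LinearMap.toSpanSingleton A M x)

lemma pt_comp {M N : ModuleCat.{u} A} (x : M) (f : M ⟶ N) : pt x ≫ f = pt (f x) := by
  ext
  simp

/-- A compatible family of linear maps on the finitely presented modules over `M` comes from a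
unique linear map on `M`. -/
theorem existsUnique_dense_desc (M : ModuleCat.{u} A) {W : Type v} [AddCommGroup W] [Module A W]
    (g : ∀ j : CostructuredArrow (fpProp A).ι M, j.left.obj →ₗ[A] W)
    (hg : ∀ {i j : CostructuredArrow (fpProp A).ι M} (f : i ⟶ j), g j ∘ₗ f.left.hom.hom = g i) :
    ∃! G : M →ₗ[A] W, ∀ j, G ∘ₗ j.hom.hom = g j := by
  have key : ∀ (j : CostructuredArrow (fpProp A).ι M) (y : j.left.obj),
      g j y = g (arrow (ring A) (pt (j.hom y))) (1 : A) := by
    intro j y
    have h := hg (CostructuredArrow.homMk (ObjectProperty.homMk (pt y)) (pt_comp y j.hom) :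
      arrow (ring A) (pt (j.hom y)) ⟶ j)
    rw [← h]
    show g j y = g j ((1 : A) • y)
    rw [one_smul]
  have hadd : ∀ x y : M, g (arrow (ring A) (pt (x + y))) (1 : A) =
      g (arrow (ring A) (pt x)) (1 : A) + g (arrow (ring A) (pt y)) (1 : A) := by
    intro x y
    let j := arrow (⟨ModuleCat.of A (Fin 2 → A), inferInstance⟩ : (fpProp A).FullSubcategory)
      (ModuleCat.ofHom ((Pi.basisFun A (Fin 2)).constr A ![x, y]))
    have h0 := key j (Pi.basisFun A (Fin 2) 0)
    have h1 := key j (Pi.basisFun A (Fin 2) 1)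
    have h2 := key j (Pi.basisFun A (Fin 2) 0 + Pi.basisFun A (Fin 2) 1)
    rw [map_add] at h2
    have e0 : j.hom (Pi.basisFun A (Fin 2) 0) = x := (Pi.basisFun A (Fin 2)).constr_basis A _ 0
    have e1 : j.hom (Pi.basisFun A (Fin 2) 1) = y := (Pi.basisFun A (Fin 2)).constr_basis A _ 1
    rw [e0] at h0
    rw [e1] at h1
    rw [map_add, e0, e1] at h2
    rw [← h0, ← h1, ← h2]
  have hsmul : ∀ (a : A) (x : M), g (arrow (ring A) (pt (a • x))) (1 : A) =
      a • g (arrow (ring A) (pt x)) (1 : A) := by
    intro a x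
    have h : g (arrow (ring A) (pt x)) a = _ := key (arrow (ring A) (pt x)) a
    refine h.symm.trans ((congrArg (g (arrow (ring A) (pt x))) (mul_one a).symm).trans ?_)
    exact map_smul (g (arrow (ring A) (pt x))) a (1 : A)
  refine ⟨{ toFun := fun x => g (arrow (ring A) (pt x)) (1 : A), map_add' := hadd, map_smul' := hsmul },
    fun j => LinearMap.ext fun y => (key j y).symm, fun G hG => LinearMap.ext fun x => ?_⟩
  have h : G ((1 : A) • x) = g (arrow (ring A) (pt x)) (1 : A) :=
    LinearMap.congr_fun (hG (arrow (ring A) (pt x))) (1 : A)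
  rwa [one_smul] at h

/-- Finitely presented modules are dense. -/
theorem isDenseAt_ι (M : ModuleCat.{u} A) : Nonempty ((fpProp A).ι.DenseAt M) := by
  let g (s : Cocone (CostructuredArrow.proj (fpProp A).ι M ⋙ (fpProp A).ι))
      (j : CostructuredArrow (fpProp A).ι M) : j.left.obj →ₗ[A] s.pt := (s.ι.app j).hom
  have ex := fun s => existsUnique_dense_desc M (g s) (fun f => congrArg ModuleCat.Hom.hom (s.w f))
  refine ⟨{ desc := fun s => ModuleCat.ofHom (ex s).exists.choose
            fac := fun s j => ?_
            uniq := fun s m hm => ?_ }⟩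
  · ext x
    refine Eq.trans ?_ (LinearMap.congr_fun ((ex s).exists.choose_spec j) x)
    simp
    rfl
  · apply ModuleCat.hom_ext
    refine (ex s).unique (fun j => ?_) (ex s).exists.choose_spec
    ext x
    refine Eq.trans ?_ (ConcreteCategory.congr_hom (hm j) x)
    simp
    rfl

section Stage

variable {J : Type u} [SmallCategory J] [IsFiltered J] {D : J ⥤ ModuleCat.{u} A} {c : Cocone D}
  (hc : IsColimit c) {M : ModuleCat.{u} A}

include hc

/-- Maps from a finite module into a filtered colimit agree at some stage. -/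
theorem exists_stage_eq [Module.Finite A M] {j : J} (a b : M ⟶ D.obj j)
    (h : a ≫ c.ι.app j = b ≫ c.ι.app j) : ∃ (k : J) (f : j ⟶ k), a ≫ D.map f = b ≫ D.map f := by
  suffices H : ∀ S : Submodule A M, S.FG → ∀ {j : J} (a b : M ⟶ D.obj j),
      a ≫ c.ι.app j = b ≫ c.ι.app j → ∃ (k : J) (f : j ⟶ k), S ≤ LinearMap.eqLocus (a ≫ D.map f).hom (b ≫ D.map f).hom by
    obtain ⟨k, f, hf⟩ := H ⊤ Module.Finite.fg_top a b h
    exact ⟨k, f, ModuleCat.hom_ext (LinearMap.ext fun x => hf Submodule.mem_top)⟩
  intro S hS
  induction S, hS using Submodule.fg_induction with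
  | singleton x =>
    intro j a b h
    obtain ⟨k, f, f', hff⟩ := Concrete.isColimit_exists_of_rep_eq D hc (a x) (b x)
      (ConcreteCategory.congr_hom h x)
    refine ⟨IsFiltered.coeq f f', f ≫ IsFiltered.coeqHom f f', ?_⟩
    rw [Submodule.span_singleton_le_iff_mem, LinearMap.mem_eqLocus]
    show (a ≫ D.map _) x = (b ≫ D.map _) x
    conv_rhs => rw [IsFiltered.coeq_condition f f']
    simp only [Functor.map_comp, ConcreteCategory.comp_apply, hff]
  | sup S T hS hT ihS ihT =>
    intro j a b h
    obtain ⟨k, f, hf⟩ := ihS a b h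
    obtain ⟨l, g, hg⟩ := ihT (a ≫ D.map f) (b ≫ D.map f) (by simpa using h)
    refine ⟨l, f ≫ g, sup_le (fun x hx => ?_) ?_⟩
    · have hx' : (a ≫ D.map f) x = (b ≫ D.map f) x := hf hx
      show (a ≫ D.map (f ≫ g)) x = (b ≫ D.map (f ≫ g)) x
      rw [Functor.map_comp, ← Category.assoc, ← Category.assoc]
      exact congrArg (D.map g) hx'
    · simpa using hg

/-- A map from a finitely presented module into a filtered colimit factors through a stage. -/
theorem exists_stage_fac [Module.FinitePresentation A M] (h : M ⟶ c.pt) :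
    ∃ (j : J) (a : M ⟶ D.obj j), a ≫ c.ι.app j = h := by
  classical
  obtain ⟨n, N, e, hN⟩ := Module.FinitePresentation.exists_fin A M
  let π : (Fin n → A) →ₗ[A] M := e.symm.toLinearMap ∘ₗ N.mkQ
  have hπ : Function.Surjective π := e.symm.surjective.comp N.mkQ_surjective
  choose j y hy using fun i : Fin n => Concrete.isColimit_exists_rep D hc (h (π (Pi.basisFun A (Fin n) i)))
  obtain ⟨k, hk⟩ := IsFiltered.sup_objs_exists (Finset.univ.image j)
  let t (i : Fin n) : j i ⟶ k := (hk (Finset.mem_image_of_mem j (Finset.mem_univ i))).some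
  let φ : ModuleCat.of A (Fin n → A) ⟶ D.obj k :=
    ModuleCat.ofHom ((Pi.basisFun A (Fin n)).constr A fun i => D.map (t i) (y i))
  have hφ : φ ≫ c.ι.app k = ModuleCat.ofHom π ≫ h := by
    refine ModuleCat.hom_ext ((Pi.basisFun A (Fin n)).ext fun i => ?_)
    show c.ι.app k ((Pi.basisFun A (Fin n)).constr A _ (Pi.basisFun A (Fin n) i)) = h (π _)
    rw [Module.Basis.constr_basis, ← hy i]
    exact ConcreteCategory.congr_hom (c.w (t i)) (y i)
  haveI : Module.Finite A (LinearMap.ker π) :=
    Module.Finite.iff_fg.mpr (Module.FinitePresentation.fg_ker π hπ)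
  let ι : ModuleCat.of A (LinearMap.ker π) ⟶ ModuleCat.of A (Fin n → A) :=
    ModuleCat.ofHom (LinearMap.ker π).subtype
  obtain ⟨l, f, hf⟩ := exists_stage_eq hc (ι ≫ φ) 0 (by
    rw [Category.assoc, hφ, zero_comp]
    ext x
    show h (π (x : Fin n → A)) = 0
    rw [LinearMap.mem_ker.mp x.2, map_zero])
  have hker : LinearMap.ker π ≤ LinearMap.ker (φ ≫ D.map f).hom := fun x hx => by
    have := ConcreteCategory.congr_hom hf (⟨x, hx⟩ : LinearMap.ker π)
    simpa [ι] using this
  refine ⟨l, ModuleCat.ofHom ((LinearMap.ker π).liftQ _ hker ∘ₗ (π.quotKerEquivOfSurjective hπ).symm.toLinearMap), ?_⟩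
  refine ModuleCat.hom_ext (LinearMap.ext fun x => ?_)
  obtain ⟨z, rfl⟩ := hπ x
  show c.ι.app l ((LinearMap.ker π).liftQ _ hker ((π.quotKerEquivOfSurjective hπ).symm (π z))) = h (π z)
  rw [show (π.quotKerEquivOfSurjective hπ).symm (π z) = Submodule.Quotient.mk z from
    (π.quotKerEquivOfSurjective hπ).symm_apply_eq.mpr rfl, Submodule.liftQ_apply]
  have h1 := ConcreteCategory.congr_hom hφ z
  show c.ι.app l (D.map f (φ z)) = h (π z)
  rw [← ConcreteCategory.comp_apply (D.map f), c.w]
  exact h1

end Stage

end Groth.FunMorFP
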