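import Groth.Agent.FunMorFP.Universal
import Mathlib.CategoryTheory.Comma.Final
import Mathlib.CategoryTheory.Limits.Preserves.Shapes.Kernels
import Mathlib.Algebra.Category.ModuleCat.Kernels
import Mathlib.Algebra.Category.ModuleCat.AB
import Mathlib.CategoryTheory.Preadditive.FunctorCategory
import Mathlib.RingTheory.Finiteness.Basic
import Mathlib.Algebra.Category.ModuleCat.Limits

/-!
# Left exact extensions over coherent rings
-/

set_option autoImplicit false
set_option linter.style.haveILetI false

universe u v v' u'

open CategoryTheory Limits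

namespace Groth.FunMorFP

section Coherent

variable {A : Type u} [CommRing A]

/-- Finitely generated submodules of free modules over a coherent ring are finitely presented. -/
theorem finitePresentation_of_fg_pi (hcoh : ∀ I : Ideal A, I.FG → Module.FinitePresentation A I) :
    ∀ (n : ℕ) (N : Submodule A (Fin n → A)), N.FG → Module.FinitePresentation A N := by
  intro n
  induction n with
  | zero =>
    intro N hN
    haveI : Module.Finite A N := Module.Finite.iff_fg.mpr hN
    exact Module.finitePresentation_of_free_of_surjective (M := Fin 0 → A) (0 : (Fin 0 → A) →ₗ[A] N)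
      (fun x => ⟨0, Subsingleton.elim _ _⟩) ⟨∅, Subsingleton.elim _ _⟩
  | succ n ih =>
    intro N hN
    haveI : Module.Finite A N := Module.Finite.iff_fg.mpr hN
    let π : N →ₗ[A] A := LinearMap.proj 0 ∘ₗ N.subtype
    let I : Ideal A := LinearMap.range π
    haveI : Module.FinitePresentation A I := hcoh I (Module.Finite.iff_fg.mp (inferInstance : Module.Finite A (LinearMap.range π)))
    have hfg := Module.FinitePresentation.fg_ker π.rangeRestrict π.surjective_rangeRestrict
    let t : (Fin (n + 1) → A) →ₗ[A] (Fin n → A) := LinearMap.funLeft A A Fin.succ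
    let s : LinearMap.ker π.rangeRestrict →ₗ[A] (Fin n → A) := t ∘ₗ N.subtype ∘ₗ (LinearMap.ker π.rangeRestrict).subtype
    have hs : Function.Injective s := by
      rw [injective_iff_map_eq_zero]
      intro z hz
      have h0 : π (z : N) = 0 := congrArg Subtype.val z.2
      apply Subtype.ext
      apply Subtype.ext
      funext i
      refine Fin.cases h0 (fun i => ?_) i
      exact congrFun hz i
    haveI : Module.Finite A (LinearMap.ker π.rangeRestrict) := Module.Finite.iff_fg.mpr hfg
    haveI := ih _ (Module.Finite.iff_fg.mp (inferInstance : Module.Finite A (LinearMap.range s)))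
    haveI : Module.FinitePresentation A (LinearMap.ker π.rangeRestrict) :=
      let e : LinearMap.range s ≃ₗ[A] LinearMap.ker π.rangeRestrict := (LinearEquiv.ofInjective s hs).symm
      Module.FinitePresentation.of_equiv (R := A) (N := LinearMap.ker π.rangeRestrict) e
    exact Module.finitePresentation_of_ker π.rangeRestrict π.surjective_rangeRestrict

/-- Finitely generated submodules of finitely presented modules over a coherent ring are finitely
presented. -/
theorem finitePresentation_of_fg (hcoh : ∀ I : Ideal A, I.FG → Module.FinitePresentation A I)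
    (M : Type v) [AddCommGroup M] [Module A M] [Module.FinitePresentation A M] (N : Submodule A M)
    (hN : N.FG) : Module.FinitePresentation A N := by
  obtain ⟨n, π, hπ⟩ := Module.Finite.exists_fin' A M
  have hker := Module.FinitePresentation.fg_ker π hπ
  let P : Submodule A (Fin n → A) := N.comap π
  have hP : P.FG := by
    apply Submodule.fg_of_fg_map_of_fg_inf_ker π
    · rwa [Submodule.map_comap_eq_of_surjective hπ]
    · rwa [inf_eq_right.mpr (LinearMap.ker_le_comap π)]
  haveI := finitePresentation_of_fg_pi hcoh n P hP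
  let q : P →ₗ[A] N := π.restrict fun x hx => hx
  have hq : Function.Surjective q := fun y => by
    obtain ⟨x, hx⟩ := hπ y
    exact ⟨⟨x, show π x ∈ N from hx ▸ y.2⟩, Subtype.ext hx⟩
  refine Module.finitePresentation_of_surjective q hq ?_
  apply Submodule.fg_of_fg_map_injective P.subtype P.injective_subtype
  have heq : (LinearMap.ker q).map P.subtype = LinearMap.ker π := by
    ext x
    constructor
    · rintro ⟨y, hy, rfl⟩
      exact congrArg Subtype.val hy
    · intro hx
      exact ⟨⟨x, show π x ∈ N by rw [LinearMap.mem_ker.mp hx]; exact N.zero_mem⟩, Subtype.ext hx, rfl⟩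
  rwa [heq]

/-- Kernels of maps of finitely presented modules over a coherent ring are finitely presented. -/
theorem finitePresentation_ker (hcoh : ∀ I : Ideal A, I.FG → Module.FinitePresentation A I)
    {M N : Type v} [AddCommGroup M] [Module A M] [AddCommGroup N] [Module A N]
    [Module.FinitePresentation A M] [Module.FinitePresentation A N] (f : M →ₗ[A] N) :
    Module.FinitePresentation A (LinearMap.ker f) := by
  haveI := finitePresentation_of_fg hcoh N (LinearMap.range f)
    (Module.Finite.iff_fg.mp (inferInstance : Module.Finite A (LinearMap.range f)))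
  have h := Module.FinitePresentation.fg_ker f.rangeRestrict f.surjective_rangeRestrict
  rw [LinearMap.ker_rangeRestrict] at h
  exact finitePresentation_of_fg hcoh M _ h

end Coherent

section ColimKernel

variable {C : Type*} [Category C] [HasZeroMorphisms C] {J : Type*} [Category J] [HasColimitsOfShape J C]
  [PreservesLimitsOfShape WalkingParallelPair (colim : (J ⥤ C) ⥤ C)]
  {DK DP DQ : J ⥤ C} (k : DK ⟶ DP) (α : DP ⟶ DQ) (w : ∀ j, k.app j ≫ α.app j = 0)

/-- A colimit of kernels is a kernel. -/
theorem isLimit_colimit_kernel (hk : ∀ j, IsLimit (KernelFork.ofι (k.app j) (w j)))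
    {cK : Cocone DK} (hK : IsColimit cK) {cP : Cocone DP} (hP : IsColimit cP) {cQ : Cocone DQ}
    (hQ : IsColimit cQ) (g : cK.pt ⟶ cP.pt) (h : cP.pt ⟶ cQ.pt)
    (hg : ∀ j, cK.ι.app j ≫ g = k.app j ≫ cP.ι.app j) (hh : ∀ j, cP.ι.app j ≫ h = α.app j ≫ cQ.ι.app j) :
    ∃ hw : g ≫ h = 0, Nonempty (IsLimit (KernelFork.ofι g hw)) := by
  have hw : g ≫ h = 0 := hK.hom_ext fun j => by
    rw [← Category.assoc, hg, Category.assoc, hh, ← Category.assoc, w, zero_comp, comp_zero]
  have wk : k ≫ α = 0 := by ext j; exact w j
  have hlim : IsLimit (KernelFork.ofι k wk) := KernelFork.IsLimit.ofι _ _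
    (fun {W} t ht =>
      { app := fun j => (hk j).lift (KernelFork.ofι (t.app j) (NatTrans.congr_app ht j))
        naturality := fun i j φ => Fork.IsLimit.hom_ext (hk j) (by
          simp only [Fork.ι_ofι, Category.assoc]
          rw [k.naturality]
          erw [Fork.IsLimit.lift_ι' (hk j)]
          rw [← Category.assoc ((hk i).lift _)]
          erw [Fork.IsLimit.lift_ι' (hk i)]
          exact t.naturality φ) })
    (fun {W} t ht => by ext j; exact Fork.IsLimit.lift_ι' (hk j) _ _)
    (fun {W} t ht m hm => by
      ext j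
      exact Fork.IsLimit.hom_ext (hk j) ((NatTrans.congr_app hm j).trans (Fork.IsLimit.lift_ι' (hk j) _ _).symm))
  have hwc : colim.map k ≫ colim.map α = (0 : colimit DK ⟶ colimit DQ) := colimit.hom_ext fun j => by
    rw [comp_zero]
    simp [reassoc_of% (w j)]
  have hl : IsLimit (KernelFork.ofι (colim.map k) hwc) := by
    haveI : (colim : (J ⥤ C) ⥤ C).PreservesZeroMorphisms :=
      ⟨fun X Y => colimit.hom_ext fun j => by simp⟩
    exact isLimitForkMapOfIsLimit' colim wk hlim
  let eK := IsColimit.coconePointUniqueUpToIso (colimit.isColimit DK) hK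
  let eP := IsColimit.coconePointUniqueUpToIso (colimit.isColimit DP) hP
  let eQ := IsColimit.coconePointUniqueUpToIso (colimit.isColimit DQ) hQ
  have hgk : colim.map k ≫ eP.hom = eK.hom ≫ g := colimit.hom_ext fun j => by
    simp [eK, eP, hg]
  have hhα : colim.map α ≫ eQ.hom = eP.hom ≫ h := colimit.hom_ext fun j => by
    simp [eP, eQ, hh]
  refine ⟨hw, ⟨KernelFork.IsLimit.ofι _ _
    (fun {W} t ht => hl.lift (KernelFork.ofι (t ≫ eP.inv) (by
      rw [← cancel_mono eQ.hom, Category.assoc, Category.assoc, hhα, eP.inv_hom_id_assoc, ht, zero_comp])) ≫ eK.hom)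
    (fun {W} t ht => ?_) (fun {W} t ht m hm => ?_)⟩⟩
  · rw [Category.assoc, ← hgk, ← Category.assoc]
    erw [Fork.IsLimit.lift_ι' hl]
    simp
  · rw [← cancel_mono eK.inv]
    refine Fork.IsLimit.hom_ext hl ?_
    simp only [Category.assoc, Iso.hom_inv_id, Category.comp_id]
    erw [Fork.IsLimit.lift_ι' hl]
    simp only [Fork.ι_ofι]
    rw [Iso.eq_comp_inv, ← hm]
    simp only [Category.assoc]
    exact congrArg (m ≫ ·) ((Iso.inv_comp_eq eK).mpr hgk)

end ColimKernel

section LeftExact

variable {A : Type u} [CommRing A] {B : Type u'} [Category.{v'} B] [Preadditive B]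
  [HasFilteredColimitsOfSize.{u, u} B] (F' : ModuleCat.{u} A ⥤ B)
  [PreservesFilteredColimitsOfSize.{u, u} F'] [F'.Additive]

/-- The extension of a left exact functor over a coherent ring preserves kernels. -/
theorem preservesKernel (hcoh : ∀ I : Ideal A, I.FG → Module.FinitePresentation A I)
    (hcomm : ∀ (J : Type u) [SmallCategory J] [IsFiltered J],
      PreservesLimitsOfShape WalkingParallelPair (colim : (J ⥤ B) ⥤ B))
    [PreservesFiniteLimits (res F')] {M N : ModuleCat.{u} A} (f : M ⟶ N) :
    PreservesLimit (parallelPair f 0) F' := by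
  haveI : IsFiltered (SmallModel.{u} (CostructuredArrow (fpProp A).ι M)) :=
    IsFiltered.of_equivalence (equivSmallModel _)
  haveI : IsFiltered (SmallModel.{u} (CostructuredArrow (fpProp A).ι N)) :=
    IsFiltered.of_equivalence (equivSmallModel _)
  let eM := (equivSmallModel.{u} (CostructuredArrow (fpProp A).ι M)).inverse
  let eN := (equivSmallModel.{u} (CostructuredArrow (fpProp A).ι N)).inverse
  let J := Comma (eM ⋙ CostructuredArrow.map f) eN
  haveI : HasColimitsOfShape J B := inferInstance
  let pM : J ⥤ CostructuredArrow (fpProp A).ι M := Comma.fst _ _ ⋙ eM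
  let pN : J ⥤ CostructuredArrow (fpProp A).ι N := Comma.snd _ _ ⋙ eN
  haveI : pM.Final := inferInstance
  haveI : pN.Final := inferInstance
  let DP : J ⥤ ModuleCat.{u} A := pM ⋙ CostructuredArrow.proj _ _ ⋙ (fpProp A).ι
  let DQ : J ⥤ ModuleCat.{u} A := pN ⋙ CostructuredArrow.proj _ _ ⋙ (fpProp A).ι
  let α : DP ⟶ DQ :=
    { app := fun j => j.hom.left.hom
      naturality := fun i j φ => congrArg (fun t => t.left.hom) φ.w }
  let cP : Cocone DP := Cocone.mk M
    { app := fun j => (pM.obj j).hom
      naturality := fun i j φ => (CostructuredArrow.w (pM.map φ)).trans (Category.comp_id _).symm }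
  let cQ : Cocone DQ := Cocone.mk N
    { app := fun j => (pN.obj j).hom
      naturality := fun i j φ => (CostructuredArrow.w (pN.map φ)).trans (Category.comp_id _).symm }
  have hh : ∀ j, cP.ι.app j ≫ f = α.app j ≫ cQ.ι.app j := fun j => (CostructuredArrow.w j.hom).symm
  have hP : IsColimit cP := ((Functor.Final.isColimitWhiskerEquiv pM _).symm (isDenseAt_ι M).some).ofIsoColimit
    (Cocone.ext (Iso.refl _) fun j => by
      show (𝟙 _ ≫ (pM.obj j).hom) ≫ 𝟙 _ = (pM.obj j).hom
      rw [Category.id_comp, Category.comp_id])
  have hQ : IsColimit cQ := ((Functor.Final.isColimitWhiskerEquiv pN _).symm (isDenseAt_ι N).some).ofIsoColimit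
    (Cocone.ext (Iso.refl _) fun j => by
      show (𝟙 _ ≫ (pN.obj j).hom) ≫ 𝟙 _ = (pN.obj j).hom
      rw [Category.id_comp, Category.comp_id])
  -- pointwise kernels
  let DK : J ⥤ (fpProp A).FullSubcategory :=
    { obj := fun j => ⟨ModuleCat.of A (LinearMap.ker (α.app j).hom),
        haveI : Module.FinitePresentation A (DP.obj j) := (pM.obj j).left.property
        haveI : Module.FinitePresentation A (DQ.obj j) := (pN.obj j).left.property
        finitePresentation_ker hcoh (α.app j).hom⟩
      map := fun {i j} φ => ObjectProperty.homMk (ModuleCat.ofHom ((DP.map φ).hom.restrict fun x hx => by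
        rw [LinearMap.mem_ker] at hx ⊢
        exact (ConcreteCategory.congr_hom (α.naturality φ) x).trans
          ((congrArg (DQ.map φ) hx).trans (map_zero _))))
      map_id := fun j => by
        ext : 1
        refine ModuleCat.hom_ext (LinearMap.ext fun x => Subtype.ext ?_)
        exact ConcreteCategory.congr_hom (DP.map_id j) x.1
      map_comp := fun φ ψ => by
        ext : 1
        refine ModuleCat.hom_ext (LinearMap.ext fun x => Subtype.ext ?_)
        exact ConcreteCategory.congr_hom (DP.map_comp φ ψ) x.1 }
  let k : DK ⋙ (fpProp A).ι ⟶ DP :=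
    { app := fun j => ModuleCat.ofHom (LinearMap.ker (α.app j).hom).subtype
      naturality := fun i j φ => rfl }
  have hw : ∀ j, k.app j ≫ α.app j = 0 := fun j => ModuleCat.hom_ext (LinearMap.ext fun x => x.2)
  have hk : ∀ j, IsLimit (KernelFork.ofι (k.app j) (hw j)) := fun j => ModuleCat.kernelIsLimit (α.app j)
  let g : colimit (DK ⋙ (fpProp A).ι) ⟶ M := colimit.desc _ ((Cocone.precompose k).obj cP)
  obtain ⟨hwg, ⟨hker⟩⟩ := isLimit_colimit_kernel k α hw hk (colimit.isColimit _) hP hQ g f
    (fun j => colimit.ι_desc _ _) hh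
  -- in `B`
  let G := (Functor.whiskeringRight J (ModuleCat.{u} A) B).obj F'
  have hwB : ∀ j, (G.map k).app j ≫ (G.map α).app j = 0 := fun j =>
    (F'.map_comp _ _).symm.trans ((congrArg F'.map (hw j)).trans (F'.map_zero _ _))
  have hkB : ∀ j, IsLimit (KernelFork.ofι ((G.map k).app j) (hwB j)) := fun j => by
    let k' : DK.obj j ⟶ (pM.obj j).left := ObjectProperty.homMk (k.app j)
    have hz : k' ≫ j.hom.left = 0 := by ext : 1; exact hw j
    have hfp : IsLimit (KernelFork.ofι k' hz) := by
      refine KernelFork.IsLimit.ofι _ _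
        (fun {W} t ht => ObjectProperty.homMk ((hk j).lift (KernelFork.ofι t.hom (congrArg InducedCategory.Hom.hom ht))))
        (fun {W} t ht => by ext : 1; exact Fork.IsLimit.lift_ι' (hk j) _ _)
        (fun {W} t ht m hm => by
          ext : 1
          exact Fork.IsLimit.hom_ext (hk j) ((congrArg InducedCategory.Hom.hom hm).trans (Fork.IsLimit.lift_ι' (hk j) _ _).symm))
    exact isLimitForkMapOfIsLimit' (res F') hz hfp
  haveI := hcomm J
  obtain ⟨_, ⟨hB⟩⟩ := isLimit_colimit_kernel (G.map k) (G.map α) hwB hkB
    (isColimitOfPreserves F' (colimit.isColimit _)) (isColimitOfPreserves F' hP) (isColimitOfPreserves F' hQ)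
    (F'.map g) (F'.map f) (fun j => by
      show F'.map _ ≫ F'.map g = F'.map _ ≫ F'.map _
      rw [← F'.map_comp, ← F'.map_comp]
      exact congrArg F'.map (colimit.ι_desc _ _)) (fun j => by
      show F'.map _ ≫ F'.map f = F'.map _ ≫ F'.map _
      rw [← F'.map_comp, ← F'.map_comp, hh])
  exact preservesLimit_of_preserves_limit_cone hker ((isLimitMapConeForkEquiv' F' hwg).symm hB)

end LeftExact

end Groth.FunMorFP
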