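import Mathlib.Algebra.Module.FinitePresentation
import Mathlib.Algebra.Category.ModuleCat.Colimits
import Mathlib.CategoryTheory.Limits.FullSubcategory
import Mathlib.CategoryTheory.Limits.Preserves.Finite
import Mathlib.CategoryTheory.Preadditive.Biproducts

/-!
# Right exact functors on finitely presented modules with prescribed value at the ring

For an object `K` of an additive category with cokernels with an action of `A`, the functor
`T ↦ Hom_A(M, Hom(K, T))` is corepresentable for every finitely presented `M`.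
-/

set_option autoImplicit false

universe u v v' u'

open CategoryTheory Limits

namespace Groth.FunMorFP

section Colimit

variable {A : Type u} [CommRing A] {J : Type} [SmallCategory J] [FinCategory J]
  {D : J ⥤ ModuleCat.{u} A} {c : Cocone D}

/-- Relations cutting out the colimit of a finite diagram. -/
noncomputable def relMap (D : J ⥤ ModuleCat.{u} A) [DecidableEq J] :
    ((f : Σ (i j : J), i ⟶ j) → D.obj f.1) →ₗ[A] ((j : J) → D.obj j) :=
  ∑ f : (Σ (i j : J), i ⟶ j), (LinearMap.single A (fun j => D.obj j) f.2.1 ∘ₗ (D.map f.2.2).hom ∘ₗ LinearMap.proj f -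
    LinearMap.single A (fun j => D.obj j) f.1 ∘ₗ LinearMap.proj f)

theorem exists_rel_equiv [DecidableEq J] (hc : IsColimit c) :
    ∃ e : (((j : J) → D.obj j) ⧸ LinearMap.range (relMap D)) ≃ₗ[A] c.pt,
      ∀ (j : J) (x : D.obj j), e (Submodule.Quotient.mk (Pi.single j x)) = c.ι.app j x := by
  classical
  set π : ((j : J) → D.obj j) →ₗ[A] c.pt := ∑ j, (c.ι.app j).hom ∘ₗ LinearMap.proj j with hπ
  have hπs : ∀ j x, π (Pi.single j x) = c.ι.app j x := by
    intro j x
    simp only [hπ, LinearMap.sum_apply, LinearMap.comp_apply, LinearMap.proj_apply]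
    rw [Finset.sum_eq_single j]
    · rw [Pi.single_eq_same]
    · intro b _ hb
      rw [Pi.single_eq_of_ne hb, map_zero]
    · simp
  have hker : LinearMap.range (relMap D) ≤ LinearMap.ker π := by
    rintro _ ⟨z, rfl⟩
    rw [LinearMap.mem_ker, relMap]
    simp only [LinearMap.sum_apply, LinearMap.sub_apply, LinearMap.comp_apply, LinearMap.proj_apply, map_sum, map_sub]
    refine Finset.sum_eq_zero fun f _ => ?_
    rw [LinearMap.coe_single, LinearMap.coe_single, hπs, hπs, sub_eq_zero]
    exact ConcreteCategory.congr_hom (c.w f.2.2) (z f)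
  set φ := (LinearMap.range (relMap D)).liftQ π hker with hφ
  let s : Cocone D := Cocone.mk (ModuleCat.of A (((j : J) → D.obj j) ⧸ LinearMap.range (relMap D)))
    { app := fun j => ModuleCat.ofHom ((LinearMap.range (relMap D)).mkQ ∘ₗ LinearMap.single A (fun j => D.obj j) j)
      naturality := fun i j f => by
        ext x
        refine (Submodule.Quotient.eq _).mpr ⟨Pi.single (⟨i, j, f⟩ : Σ (i j : J), i ⟶ j) x, ?_⟩
        simp only [relMap, LinearMap.sum_apply, LinearMap.sub_apply, LinearMap.comp_apply, LinearMap.proj_apply]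
        rw [Finset.sum_eq_single ⟨i, j, f⟩]
        · rw [Pi.single_eq_same]; rfl
        · intro b _ hb
          rw [Pi.single_eq_of_ne hb]; simp
        · simp }
  set ψ := (hc.desc s).hom with hψ
  have hψc : ∀ j x, ψ (c.ι.app j x) = Submodule.Quotient.mk (Pi.single j x) := fun j x =>
    ConcreteCategory.congr_hom (hc.fac s j) x
  have h1 : ψ ∘ₗ φ = LinearMap.id := by
    refine Submodule.linearMap_qext _ (LinearMap.pi_ext fun j x => ?_)
    show ψ (π (Pi.single j x)) = _
    rw [hπs, hψc]
    rfl
  have h2 : φ ∘ₗ ψ = LinearMap.id := by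
    have : hc.desc s ≫ ModuleCat.ofHom φ = 𝟙 c.pt := hc.hom_ext fun j => by
      ext x
      show φ (ψ (c.ι.app j x)) = c.ι.app j x
      rw [hψc]
      exact hπs j x
    exact congrArg ModuleCat.Hom.hom this
  exact ⟨LinearEquiv.ofLinear φ ψ h2 h1, fun j x => hπs j x⟩

theorem finitePresentation_of_isColimit (hc : IsColimit c)
    (hD : ∀ j, Module.FinitePresentation A (D.obj j)) : Module.FinitePresentation A c.pt := by
  classical
  obtain ⟨e, -⟩ := exists_rel_equiv hc
  have := hD
  have : ∀ j, Module.Finite A (D.obj j) := fun j => inferInstance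
  have : Module.FinitePresentation A ((j : J) → D.obj j) := Module.FinitePresentation.pi _
  have := Module.finitePresentation_of_surjective (LinearMap.range (relMap D)).mkQ
    (Submodule.mkQ_surjective _) (by rw [Submodule.ker_mkQ, ← Submodule.map_top]
                                     exact Module.Finite.fg_top.map _)
  exact Module.FinitePresentation.of_equiv e

/-- A colimit of a finite diagram of modules tests against modules in any universe. -/
theorem existsUnique_desc (hc : IsColimit c) {W : Type v} [AddCommGroup W] [Module A W]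
    (g : ∀ j, D.obj j →ₗ[A] W) (hg : ∀ {i j : J} (f : i ⟶ j), g j ∘ₗ (D.map f).hom = g i) :
    ∃! G : c.pt →ₗ[A] W, ∀ j, G ∘ₗ (c.ι.app j).hom = g j := by
  classical
  obtain ⟨e, he⟩ := exists_rel_equiv hc
  set π : ((j : J) → D.obj j) →ₗ[A] W := ∑ j, g j ∘ₗ LinearMap.proj j with hπ
  have hπs : ∀ j x, π (Pi.single j x) = g j x := by
    intro j x
    simp only [hπ, LinearMap.sum_apply, LinearMap.comp_apply, LinearMap.proj_apply]
    rw [Finset.sum_eq_single j]
    · rw [Pi.single_eq_same]
    · intro b _ hb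
      rw [Pi.single_eq_of_ne hb, map_zero]
    · simp
  have hker : LinearMap.range (relMap D) ≤ LinearMap.ker π := by
    rintro _ ⟨z, rfl⟩
    rw [LinearMap.mem_ker, relMap]
    simp only [LinearMap.sum_apply, LinearMap.sub_apply, LinearMap.comp_apply, LinearMap.proj_apply, map_sum, map_sub]
    refine Finset.sum_eq_zero fun f _ => ?_
    rw [LinearMap.coe_single, LinearMap.coe_single, hπs, hπs, sub_eq_zero]
    exact LinearMap.congr_fun (hg f.2.2) (z f)
  refine ⟨(LinearMap.range (relMap D)).liftQ π hker ∘ₗ e.symm.toLinearMap, fun j => ?_, fun G hG => ?_⟩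
  · ext x
    show (LinearMap.range (relMap D)).liftQ π hker (e.symm (c.ι.app j x)) = g j x
    rw [← he, e.symm_apply_apply, Submodule.liftQ_apply, hπs]
  · have h2 : G ∘ₗ e.toLinearMap = (LinearMap.range (relMap D)).liftQ π hker := by
      refine Submodule.linearMap_qext _ (LinearMap.pi_ext fun j x => ?_)
      show G (e (Submodule.Quotient.mk (Pi.single j x))) = π (Pi.single j x)
      rw [he, hπs, ← hG j]
      rfl
    rw [← h2]
    ext x
    simp

end Colimit

section Value

variable (A : Type u) [CommRing A]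

/-- The finitely presented modules. -/
abbrev fpProp : ObjectProperty (ModuleCat.{u} A) := fun M => Module.FinitePresentation A M

instance (J : Type) [SmallCategory J] [FinCategory J] :
    (fpProp A).IsClosedUnderColimitsOfShape J where
  colimitsOfShape_le := by
    rintro X ⟨h⟩
    exact finitePresentation_of_isColimit h.isColimit h.prop_diag_obj

variable {A} {B : Type u'} [Category.{v'} B] [Preadditive B] {K : B}

/-- `Hom(K, T)` as a module through an action of `A` on `K`. -/
def HomMod (_ : A →+* End K) (T : B) : Type v' := K ⟶ T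

variable (κ : A →+* End K) (T : B)

instance : AddCommGroup (HomMod κ T) := inferInstanceAs (AddCommGroup (K ⟶ T))

/-- The tautological identification. -/
def HomMod.mk {κ : A →+* End K} {T : B} (f : K ⟶ T) : HomMod κ T := f
/-- The tautological identification. -/
def HomMod.out {κ : A →+* End K} {T : B} (f : HomMod κ T) : K ⟶ T := f

instance : Module A (HomMod κ T) where
  smul a f := HomMod.mk ((κ a : K ⟶ K) ≫ f.out)
  one_smul f := by
    show (κ 1 : K ⟶ K) ≫ f.out = f.out
    rw [map_one]; exact Category.id_comp _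
  mul_smul a b f := by
    show (κ (a * b) : K ⟶ K) ≫ f.out = (κ a : K ⟶ K) ≫ (κ b : K ⟶ K) ≫ f.out
    rw [mul_comm, map_mul]; exact Category.assoc _ _ _
  smul_zero a := comp_zero
  smul_add a f g := Preadditive.comp_add _ _ _ _ _ _
  add_smul a b f := by
    show (κ (a + b) : K ⟶ K) ≫ f.out = (κ a : K ⟶ K) ≫ f.out + (κ b : K ⟶ K) ≫ f.out
    rw [map_add]; exact Preadditive.add_comp _ _ _ _ _ _
  zero_smul f := by
    show (κ 0 : K ⟶ K) ≫ f.out = 0
    rw [map_zero]; exact zero_comp

theorem smul_def (a : A) (f : HomMod κ T) : (a • f).out = (κ a : K ⟶ K) ≫ f.out := rfl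

variable {T}

/-- Postcomposition. -/
def post {T' : B} (g : T ⟶ T') : HomMod κ T →ₗ[A] HomMod κ T' where
  toFun f := HomMod.mk (f.out ≫ g)
  map_add' f f' := Preadditive.add_comp _ _ _ _ _ _
  map_smul' a f := Category.assoc _ _ _

theorem post_comp {T' T'' : B} (g : T ⟶ T') (h : T' ⟶ T'') :
    post κ (g ≫ h) = post κ h ∘ₗ post κ g :=
  LinearMap.ext fun f => (Category.assoc f.out g h).symm

theorem post_id : post κ (𝟙 T) = LinearMap.id :=
  LinearMap.ext fun f => Category.comp_id f.out

/-- The corepresentability of `T ↦ Hom_A(M, Hom(K, T))`. -/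
theorem exists_universal [HasFiniteBiproducts B] [HasCokernels B]
    (M : Type u) [AddCommGroup M] [Module A M] [Module.FinitePresentation A M] :
    ∃ (X : B) (u : M →ₗ[A] HomMod κ X), ∀ T : B,
      Function.Bijective fun g : X ⟶ T => post κ g ∘ₗ u := by
  classical
  obtain ⟨n, N, e, hN⟩ := Module.FinitePresentation.exists_fin A M
  obtain ⟨S, hS⟩ := hN
  let P : B := ⨁ fun _ : Fin n => K
  let d : (⨁ fun _ : S => K) ⟶ P :=
    biproduct.desc fun s => biproduct.lift fun i => (κ (s.1 i) : K ⟶ K)
  let u₀ : (Fin n → A) →ₗ[A] HomMod κ (cokernel d) :=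
    (Pi.basisFun A (Fin n)).constr A fun i => HomMod.mk (biproduct.ι (fun _ : Fin n => K) i ≫ cokernel.π d)
  have hu₀ : ∀ {T : B} (L : (Fin n → A) →ₗ[A] HomMod κ T) (z : Fin n → A),
      (L z).out = biproduct.lift (fun i => (κ (z i) : K ⟶ K)) ≫
        biproduct.desc fun i => (L (Pi.basisFun A (Fin n) i)).out := by
    intro T L z
    rw [biproduct.lift_desc]
    conv_lhs => rw [← (Pi.basisFun A (Fin n)).sum_repr z, map_sum]
    simp only [map_smul, Pi.basisFun_repr]
    rfl
  have hπ : (biproduct.desc fun i => (u₀ (Pi.basisFun A (Fin n) i)).out) = cokernel.π d := by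
    ext i
    rw [biproduct.ι_desc]
    simp only [u₀, Module.Basis.constr_basis]
    rfl
  have hker : N ≤ LinearMap.ker u₀ := by
    rw [← hS, Submodule.span_le]
    intro s hs
    show u₀ s = 0
    have := hu₀ u₀ s
    rw [hπ] at this
    have h2 : biproduct.lift (fun i => (κ (s i) : K ⟶ K)) = biproduct.ι (fun _ : S => K) ⟨s, hs⟩ ≫ d := by
      rw [biproduct.ι_desc]
    rw [h2, Category.assoc, cokernel.condition, comp_zero] at this
    exact this
  refine ⟨cokernel d, N.liftQ u₀ hker ∘ₗ e.toLinearMap, fun T => ⟨fun g g' h => ?_, fun L => ?_⟩⟩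
  · refine coequalizer.hom_ext (biproduct.hom_ext' _ _ fun i => ?_)
    have := LinearMap.congr_fun h (e.symm (Submodule.Quotient.mk (Pi.basisFun A (Fin n) i)))
    simp only [LinearMap.comp_apply, LinearEquiv.coe_coe, e.apply_symm_apply, Submodule.liftQ_apply] at this
    simp only [u₀, Module.Basis.constr_basis] at this
    rw [← Category.assoc, ← Category.assoc]
    exact this
  · let L₀ : (Fin n → A) →ₗ[A] HomMod κ T := L ∘ₗ e.symm.toLinearMap ∘ₗ N.mkQ
    let g₀ : P ⟶ T := biproduct.desc fun i => (L₀ (Pi.basisFun A (Fin n) i)).out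
    have hd : d ≫ g₀ = 0 := by
      ext s
      rw [comp_zero, ← Category.assoc, biproduct.ι_desc, ← hu₀ L₀ s.1]
      have hs0 : N.mkQ s.1 = 0 := (Submodule.Quotient.mk_eq_zero N).mpr (hS ▸ Submodule.subset_span s.2)
      simp only [L₀, LinearMap.comp_apply, hs0, map_zero]
      rfl
    refine ⟨cokernel.desc d g₀ hd, ?_⟩
    have h1 : post κ (cokernel.desc d g₀ hd) ∘ₗ u₀ = L₀ := by
      refine (Pi.basisFun A (Fin n)).ext fun i => ?_
      simp only [LinearMap.comp_apply, u₀, Module.Basis.constr_basis]
      show (biproduct.ι (fun _ : Fin n => K) i ≫ cokernel.π d) ≫ cokernel.desc d g₀ hd = _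
      rw [Category.assoc, cokernel.π_desc, biproduct.ι_desc]
      rfl
    refine LinearMap.ext fun x => ?_
    obtain ⟨z, hz⟩ := N.mkQ_surjective (e x)
    have h3 := LinearMap.congr_fun h1 z
    show post κ (cokernel.desc d g₀ hd) (N.liftQ u₀ hker (e x)) = L x
    rw [← hz]
    refine h3.trans ?_
    simp only [L₀, LinearMap.comp_apply, hz, LinearEquiv.coe_coe, e.symm_apply_apply]

variable [HasFiniteBiproducts B] [HasCokernels B]

/-- The value of the functor. -/
noncomputable def obj (M : (fpProp A).FullSubcategory) : B :=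
  letI := M.property
  (exists_universal κ M.obj).choose

/-- The universal map. -/
noncomputable def unit (M : (fpProp A).FullSubcategory) : M.obj →ₗ[A] HomMod κ (obj κ M) :=
  letI := M.property
  (exists_universal κ M.obj).choose_spec.choose

theorem bijective_unit (M : (fpProp A).FullSubcategory) (T : B) :
    Function.Bijective fun g : obj κ M ⟶ T => post κ g ∘ₗ unit κ M :=
  letI := M.property
  (exists_universal κ M.obj).choose_spec.choose_spec T

theorem obj_hom_ext {M : (fpProp A).FullSubcategory} {T : B} {g g' : obj κ M ⟶ T}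
    (h : post κ g ∘ₗ unit κ M = post κ g' ∘ₗ unit κ M) : g = g' :=
  (bijective_unit κ M T).1 h

/-- The morphism out of `obj κ M` of a linear map. -/
noncomputable def lift {M : (fpProp A).FullSubcategory} {T : B} (L : M.obj →ₗ[A] HomMod κ T) :
    obj κ M ⟶ T :=
  ((bijective_unit κ M T).2 L).choose

theorem post_lift {M : (fpProp A).FullSubcategory} {T : B} (L : M.obj →ₗ[A] HomMod κ T) :
    post κ (lift κ L) ∘ₗ unit κ M = L :=
  ((bijective_unit κ M T).2 L).choose_spec

/-- The right exact functor with value `K` at the ring. -/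
noncomputable def valueFunctor : (fpProp A).FullSubcategory ⥤ B where
  obj := obj κ
  map {M N} f := lift κ (unit κ N ∘ₗ f.hom.hom)
  map_id M := obj_hom_ext κ (by rw [post_lift, post_id]; rfl)
  map_comp {L M N} f g := obj_hom_ext κ (by
    rw [post_lift, post_comp, LinearMap.comp_assoc, post_lift, ← LinearMap.comp_assoc, post_lift]
    rfl)

/-- The universal element at `x`. -/
noncomputable def elem (M : (fpProp A).FullSubcategory) (x : M.obj) : K ⟶ (valueFunctor κ).obj M :=
  (unit κ M x).out

theorem elem_smul (M : (fpProp A).FullSubcategory) (a : A) (x : M.obj) :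
    elem κ M (a • x) = (κ a : K ⟶ K) ≫ elem κ M x :=
  congrArg HomMod.out (map_smul (unit κ M) a x)

theorem elem_hom_ext {M : (fpProp A).FullSubcategory} {T : B} {g g' : (valueFunctor κ).obj M ⟶ T}
    (h : ∀ x, elem κ M x ≫ g = elem κ M x ≫ g') : g = g' :=
  obj_hom_ext κ (LinearMap.ext h)

/-- `lift`, with source the value of the functor. -/
noncomputable def desc {M : (fpProp A).FullSubcategory} {T : B} (L : M.obj →ₗ[A] HomMod κ T) :
    (valueFunctor κ).obj M ⟶ T :=
  lift κ L

theorem elem_desc {M : (fpProp A).FullSubcategory} {T : B} (L : M.obj →ₗ[A] HomMod κ T) (x : M.obj) :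
    elem κ M x ≫ desc κ L = (L x).out :=
  LinearMap.congr_fun (post_lift κ L) x

theorem elem_map {M N : (fpProp A).FullSubcategory} (f : M ⟶ N) (x : M.obj) :
    elem κ M x ≫ (valueFunctor κ).map f = elem κ N (f.hom.hom x) :=
  LinearMap.congr_fun (post_lift κ (unit κ N ∘ₗ f.hom.hom)) x

instance : PreservesFiniteColimits (valueFunctor κ) where
  preservesFiniteColimits J _ _ := ⟨fun {D} => ⟨fun {c} hc => by
    have hc' : IsColimit ((fpProp A).ι.mapCocone c) := isColimitOfPreserves (fpProp A).ι hc
    let g : ∀ (s : Cocone (D ⋙ valueFunctor κ)) (j : J),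
        (D ⋙ (fpProp A).ι).obj j →ₗ[A] HomMod κ s.pt := fun s j =>
      post κ (T' := s.pt) (s.ι.app j) ∘ₗ unit κ (D.obj j)
    have hg : ∀ (s : Cocone (D ⋙ valueFunctor κ)) {i j : J} (f : i ⟶ j),
        g s j ∘ₗ ((D ⋙ (fpProp A).ι).map f).hom = g s i := fun s {i j} f => by
      refine LinearMap.ext fun x => ?_
      show elem κ (D.obj j) ((D.map f).hom.hom x) ≫ s.ι.app j = elem κ (D.obj i) x ≫ s.ι.app i
      rw [← elem_map, Category.assoc]
      exact congrArg (elem κ (D.obj i) x ≫ ·) (s.w f)
    have ex := fun s : Cocone (D ⋙ valueFunctor κ) => existsUnique_desc hc' (W := HomMod κ s.pt) (g s) (fun {i j} f => by exact hg s f)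
    refine ⟨{
      desc := fun s => desc κ (ex s).exists.choose
      fac := fun s j => elem_hom_ext κ (M := D.obj j) fun x => ?_
      uniq := fun s m hm => elem_hom_ext κ (M := c.pt) fun x => ?_ }⟩
    · show elem κ (D.obj j) x ≫ (valueFunctor κ).map (c.ι.app j) ≫ _ = _
      refine (Category.assoc _ _ _).symm.trans ?_
      refine (congrArg (· ≫ _) (elem_map κ (c.ι.app j) x)).trans ?_
      refine (elem_desc κ _ _).trans ?_
      exact LinearMap.congr_fun ((ex s).exists.choose_spec j) x
    · refine Eq.trans ?_ (elem_desc κ _ x).symm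
      have h : post κ m ∘ₗ unit κ c.pt = (ex s).exists.choose := by
        refine (ex s).unique (fun j => LinearMap.ext fun y => ?_) (ex s).exists.choose_spec
        show elem κ c.pt ((c.ι.app j).hom.hom y) ≫ m = elem κ (D.obj j) y ≫ s.ι.app j
        rw [← elem_map, Category.assoc]
        exact congrArg (elem κ (D.obj j) y ≫ ·) (hm j)
      exact congrArg HomMod.out (LinearMap.congr_fun h x)⟩⟩

/-- The value at the ring. -/
noncomputable def valueIso (R : (fpProp A).FullSubcategory) (φ : A ≃ₗ[A] R.obj) :
    (valueFunctor κ).obj R ≅ K where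
  hom := desc κ ((LinearMap.toSpanSingleton A (HomMod κ K) (HomMod.mk (𝟙 K))) ∘ₗ φ.symm.toLinearMap)
  inv := elem κ R (φ 1)
  hom_inv_id := elem_hom_ext κ fun x => by
    rw [← Category.assoc, elem_desc, Category.comp_id]
    show ((κ (φ.symm x) : K ⟶ K) ≫ 𝟙 K) ≫ elem κ R (φ 1) = elem κ R x
    rw [Category.comp_id, ← elem_smul, ← map_smul, smul_eq_mul, mul_one, φ.apply_symm_apply]
  inv_hom_id := by
    rw [elem_desc]
    show (κ (φ.symm (φ 1)) : K ⟶ K) ≫ 𝟙 K = 𝟙 K
    rw [φ.symm_apply_apply, map_one, Category.comp_id]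
    rfl

theorem valueIso_natural (R : (fpProp A).FullSubcategory) (φ : A ≃ₗ[A] R.obj) (a : A) (f : R ⟶ R)
    (hf : ∀ x, f.hom.hom x = a • x) :
    (valueFunctor κ).map f ≫ (valueIso κ R φ).hom = (valueIso κ R φ).hom ≫ (κ a : K ⟶ K) := by
  refine elem_hom_ext κ fun x => ?_
  simp only [valueIso]
  rw [← Category.assoc, elem_map, elem_desc, ← Category.assoc, elem_desc, hf]
  show (κ (φ.symm (a • x)) : K ⟶ K) ≫ 𝟙 K = ((κ (φ.symm x) : K ⟶ K) ≫ 𝟙 K) ≫ (κ a : K ⟶ K)
  rw [map_smul, smul_eq_mul, map_mul, Category.comp_id, Category.comp_id]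
  rfl

end Value

end Groth.FunMorFP
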