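import Groth.Agent.FunMorFP.Extension

/-!
# Universal property of right exact functors on modules

For a right exact functor `F` on (finitely presented) modules with values in an additive category,
`Hom(F(M), T) = Hom_A(M, Hom(F(A), T))`.
-/

set_option autoImplicit false
set_option linter.style.haveILetI false

universe u v v' u'

open CategoryTheory Limits

namespace Groth.FunMorFP

variable {A : Type u} [CommRing A] {B : Type u'} [Category.{v'} B] [Preadditive B]

/-- A right exact functor on finitely presented modules is additive. -/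
theorem additive_of_rightExact [HasFiniteBiproducts B] (F : (fpProp A).FullSubcategory ⥤ B)
    [PreservesFiniteColimits F] : F.Additive :=
  haveI := hasBinaryBiproducts_of_finite_biproducts (fpProp A).FullSubcategory
  haveI : HasZeroObject (fpProp A).FullSubcategory := inferInstance
  haveI : HasZeroObject B := inferInstance
  haveI : F.PreservesZeroMorphisms := inferInstance
  haveI : PreservesColimitsOfShape (Discrete WalkingPair) F := inferInstance
  haveI : PreservesBinaryBiproducts F := preservesBinaryBiproducts_of_preservesBinaryCoproducts F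
  Functor.additive_of_preservesBinaryBiproducts F

section FP

variable (F : (fpProp A).FullSubcategory ⥤ B) [F.Additive]

/-- `a • 𝟙` of the ring. -/
abbrev smulRing (a : A) : ring A ⟶ ring A :=
  ObjectProperty.homMk (ModuleCat.ofHom (LinearMap.lsmul A A a))

lemma smulRing_comp_pt {M : ModuleCat.{u} A} (a : A) (x : M) :
    (smulRing a).hom ≫ pt x = pt (a • x) := by
  apply ModuleCat.hom_ext
  ext
  simp

/-- The action on the value at the ring. -/
noncomputable def endAction : A →+* End (F.obj (ring A)) where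
  toFun a := F.map (smulRing a)
  map_one' := by
    show F.map (smulRing 1) = 𝟙 _
    rw [← F.map_id]; congr 1; ext; simp
  map_mul' a b := by
    show F.map (smulRing (a * b)) = F.map (smulRing b) ≫ F.map (smulRing a)
    rw [← F.map_comp]; congr 1; ext; simp
  map_zero' := by
    rw [← F.map_zero (ring A) (ring A)]; congr 1; ext; simp
  map_add' a b := by
    show F.map (smulRing (a + b)) = F.map (smulRing a) + F.map (smulRing b)
    rw [← F.map_add]; congr 1; ext : 1; exact ModuleCat.hom_ext (map_add (LinearMap.lsmul A A) a b)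

/-- `F` at the point `x`. -/
noncomputable def elemF (M : (fpProp A).FullSubcategory) (x : M.obj) : F.obj (ring A) ⟶ F.obj M :=
  F.map (ObjectProperty.homMk (pt x))

omit [Preadditive B] [F.Additive] in
lemma elemF_map {M N : (fpProp A).FullSubcategory} (x : M.obj) (f : M ⟶ N) :
    elemF F M x ≫ F.map f = elemF F N (f.hom.hom x) := by
  rw [elemF, elemF, ← F.map_comp]
  congr 1
  ext : 1
  exact pt_comp x f.hom

lemma elemF_smul (M : (fpProp A).FullSubcategory) (a : A) (x : M.obj) :
    elemF F M (a • x) = (endAction F a : F.obj (ring A) ⟶ F.obj (ring A)) ≫ elemF F M x := by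
  show _ = F.map (smulRing a) ≫ _
  rw [elemF, elemF, ← F.map_comp]
  congr 1
  ext : 1
  exact (smulRing_comp_pt a x).symm

lemma elemF_add (M : (fpProp A).FullSubcategory) (x y : M.obj) :
    elemF F M (x + y) = elemF F M x + elemF F M y := by
  rw [elemF, elemF, elemF, ← F.map_add]
  congr 1
  ext : 1
  refine ModuleCat.hom_ext (LinearMap.ext fun (a : A) => ?_)
  show a • (x + y) = a • x + a • y
  exact smul_add a x y

/-- `x ↦ F(x)`, linear. -/
noncomputable def unitF (M : (fpProp A).FullSubcategory) : M.obj →ₗ[A] HomMod (endAction F) (F.obj M) where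
  toFun x := HomMod.mk (elemF F M x)
  map_add' := elemF_add F M
  map_smul' := elemF_smul F M

/-- The free module. -/
abbrev free (S : Type u) [Fintype S] : (fpProp A).FullSubcategory :=
  ⟨ModuleCat.of A (S → A), inferInstance⟩

lemma sum_free (S : Type u) [Fintype S] [DecidableEq S] :
    ∑ s : S, F.map (ObjectProperty.homMk (ModuleCat.ofHom (LinearMap.proj s)) : free S ⟶ ring A) ≫
      elemF F (free S) (Pi.basisFun A S s) = 𝟙 (F.obj (free S)) := by
  simp only [elemF, ← F.map_comp, ← F.map_sum, ← F.map_id]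
  congr 1
  apply ObjectProperty.hom_ext
  rw [show (∑ s : S, (ObjectProperty.homMk (ModuleCat.ofHom (LinearMap.proj s)) : free S ⟶ ring A) ≫
      (ObjectProperty.homMk (pt (Pi.basisFun A S s)) : ring A ⟶ free S)).hom = ∑ s : S,
      ModuleCat.ofHom (LinearMap.proj s) ≫ pt (M := ModuleCat.of A (S → A)) (Pi.basisFun A S s) from
    map_sum (fpProp A).ι.mapAddHom _ _]
  refine ModuleCat.hom_ext (LinearMap.ext fun z => ?_)
  rw [ModuleCat.hom_sum, LinearMap.sum_apply]
  exact (Pi.basisFun A S).sum_repr z

lemma free_hom_ext (S : Type u) [Fintype S] [DecidableEq S] {T : B} {g g' : F.obj (free S) ⟶ T}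
    (h : ∀ s, elemF F (free S) (Pi.basisFun A S s) ≫ g = elemF F (free S) (Pi.basisFun A S s) ≫ g') :
    g = g' := by
  rw [← Category.id_comp g, ← Category.id_comp g', ← sum_free F S, Preadditive.sum_comp, Preadditive.sum_comp]
  simp only [Category.assoc, h]

lemma free_desc (S : Type u) [Fintype S] [DecidableEq S] {T : B}
    (L : (S → A) →ₗ[A] HomMod (endAction F) T) :
    ∃ g : F.obj (free S) ⟶ T, ∀ z, elemF F (free S) z ≫ g = (L z).out := by
  refine ⟨∑ s, F.map (ObjectProperty.homMk (ModuleCat.ofHom (LinearMap.proj s)) : free S ⟶ ring A) ≫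
    (L (Pi.basisFun A S s)).out, fun z => ?_⟩
  rw [Preadditive.comp_sum]
  conv_rhs => rw [← (Pi.basisFun A S).sum_repr z, map_sum]
  refine Finset.sum_congr rfl (fun s _ => ?_) |>.trans
    (map_sum ((AddMonoidHom.id (HomMod (endAction F) T) : HomMod (endAction F) T →+ (F.obj (ring A) ⟶ T))) _ _).symm
  rw [map_smul, ← Category.assoc, elemF_map]
  show elemF F (ring A) (z s) ≫ _ = F.map (smulRing ((Pi.basisFun A S).repr z s)) ≫ _
  rw [Pi.basisFun_repr, elemF]
  congr 2
  ext : 1
  refine ModuleCat.hom_ext (LinearMap.ext fun (a : A) => ?_)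
  exact mul_comm a (z s)

/-- Hom out of the value of a right exact functor on a finitely presented module. -/
theorem bijective_unitF [PreservesFiniteColimits F] (M : (fpProp A).FullSubcategory) (T : B) :
    Function.Bijective fun g : F.obj M ⟶ T => post (endAction F) g ∘ₗ unitF F M := by
  classical
  haveI : Module.FinitePresentation A M.obj := M.property
  obtain ⟨n, N, e, hN⟩ := Module.FinitePresentation.exists_fin A M.obj
  obtain ⟨S, hS⟩ := hN
  let p₀ : (ULift.{u} (Fin n) → A) →ₗ[A] M.obj :=
    e.symm.toLinearMap ∘ₗ N.mkQ ∘ₗ (LinearMap.funLeft A A ULift.up)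
  have hsurj : Function.Surjective p₀ :=
    e.symm.surjective.comp (N.mkQ_surjective.comp fun z => ⟨fun i => z i.down, rfl⟩)
  haveI : Module.Finite A (LinearMap.ker p₀) := Module.Finite.iff_fg.mpr (Module.FinitePresentation.fg_ker p₀ hsurj)
  obtain ⟨m, σ, hσ⟩ := Module.Finite.exists_fin' A (LinearMap.ker p₀)
  let p : free (ULift.{u} (Fin n)) ⟶ M := ObjectProperty.homMk (ModuleCat.ofHom p₀)
  let d₀ : (ULift.{u} (Fin m) → A) →ₗ[A] (ULift.{u} (Fin n) → A) :=
    (LinearMap.ker p₀).subtype ∘ₗ σ ∘ₗ LinearMap.funLeft A A ULift.up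
  let d : free (ULift.{u} (Fin m)) ⟶ free (ULift.{u} (Fin n)) := ObjectProperty.homMk (ModuleCat.ofHom d₀)
  have hrange : LinearMap.range d₀ = LinearMap.ker p₀ := by
    have h1 : Function.Surjective (σ ∘ₗ LinearMap.funLeft A A ULift.up) :=
      hσ.comp fun z => ⟨fun i => z i.down, rfl⟩
    rw [LinearMap.range_comp, LinearMap.range_eq_top.mpr h1, Submodule.map_top, Submodule.range_subtype]
  have hw : d ≫ p = 0 := by
    ext : 1
    refine ModuleCat.hom_ext (LinearMap.ext fun z => ?_)
    show p₀ (d₀ z) = 0
    rw [← LinearMap.mem_ker, ← hrange]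
    exact ⟨z, rfl⟩
  have hker : ∀ (W : ModuleCat.{u} A) (k : ModuleCat.of A (ULift.{u} (Fin n) → A) ⟶ W),
      ModuleCat.ofHom d₀ ≫ k = 0 → LinearMap.ker p₀ ≤ LinearMap.ker k.hom := fun W k hk z hz => by
    rw [← hrange] at hz
    obtain ⟨w, rfl⟩ := hz
    exact ConcreteCategory.congr_hom hk w
  let dsc (W : (fpProp A).FullSubcategory) (k : free (ULift.{u} (Fin n)) ⟶ W) (hk : d ≫ k = 0) : M ⟶ W :=
    ObjectProperty.homMk (ModuleCat.ofHom
      ((LinearMap.ker p₀).liftQ k.hom.hom (hker W.obj k.hom (congrArg InducedCategory.Hom.hom hk)) ∘ₗ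
        (p₀.quotKerEquivOfSurjective hsurj).symm.toLinearMap))
  have hdsc : ∀ W k hk z, (dsc W k hk).hom.hom (p₀ z) = k.hom.hom z := fun W k hk z => by
    show (LinearMap.ker p₀).liftQ k.hom.hom (hker W.obj k.hom (congrArg InducedCategory.Hom.hom hk))
      ((p₀.quotKerEquivOfSurjective hsurj).symm (p₀ z)) = k.hom.hom z
    rw [show (p₀.quotKerEquivOfSurjective hsurj).symm (p₀ z) = Submodule.Quotient.mk z from
      (p₀.quotKerEquivOfSurjective hsurj).symm_apply_eq.mpr rfl]
    rfl
  have hc : IsColimit (CokernelCofork.ofπ p hw) := CokernelCofork.IsColimit.ofπ _ _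
    (fun {W} k hk => dsc W k hk)
    (fun {W} k hk => by
      ext : 1
      exact ModuleCat.hom_ext (LinearMap.ext fun z => hdsc W k hk z))
    (fun {W} k hk m' hm' => by
      ext : 1
      refine ModuleCat.hom_ext (LinearMap.ext fun x => ?_)
      obtain ⟨z, rfl⟩ := hsurj x
      refine Eq.trans ?_ (hdsc W k hk z).symm
      rw [← hm']
      rfl)
  have hFc := isColimitCoforkMapOfIsColimit' F hw hc
  refine ⟨fun g g' h => ?_, fun L => ?_⟩
  · refine Cofork.IsColimit.hom_ext hFc (free_hom_ext F _ fun s => ?_)
    show elemF F _ _ ≫ F.map p ≫ g = elemF F _ _ ≫ F.map p ≫ g'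
    rw [← Category.assoc, ← Category.assoc, elemF_map]
    exact congrArg HomMod.out (LinearMap.congr_fun h _)
  · obtain ⟨g₀, hg₀⟩ := free_desc F _ (L ∘ₗ p₀)
    have hd : F.map d ≫ g₀ = 0 := free_hom_ext F _ fun s => by
      rw [comp_zero, ← Category.assoc, elemF_map, hg₀]
      show (L (p₀ (d₀ _))).out = 0
      have h0 : p₀ (d₀ (Pi.basisFun A _ s)) = 0 := by
        rw [← LinearMap.mem_ker, ← hrange]; exact ⟨_, rfl⟩
      rw [h0, map_zero]
      rfl
    obtain ⟨g, hg⟩ := CokernelCofork.IsColimit.desc' hFc g₀ hd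
    refine ⟨g, LinearMap.ext fun x => ?_⟩
    obtain ⟨z, rfl⟩ := hsurj x
    show elemF F M (p.hom.hom z) ≫ g = (L (p₀ z)).out
    rw [← elemF_map, Category.assoc]
    exact (congrArg _ hg).trans (hg₀ z)

end FP

section All

variable (F' : ModuleCat.{u} A ⥤ B) [PreservesFilteredColimitsOfSize.{u, u} F'] [F'.Additive]

/-- The restriction. -/
abbrev res : (fpProp A).FullSubcategory ⥤ B := (fpProp A).ι ⋙ F'

/-- `F'` at the point `x`. -/
abbrev elemM {M : ModuleCat.{u} A} (x : M) : (res F').obj (ring A) ⟶ F'.obj M :=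
  F'.map (pt x)

omit [Preadditive B] [PreservesFilteredColimitsOfSize.{u, u} F'] [F'.Additive] in
lemma elemM_map {M N : ModuleCat.{u} A} (x : M) (f : M ⟶ N) :
    elemM F' x ≫ F'.map f = elemM F' (f x) := by
  rw [elemM, elemM, ← F'.map_comp, pt_comp]

/-- `x ↦ F'(x)`, linear. -/
noncomputable def unitM (M : ModuleCat.{u} A) : M →ₗ[A] HomMod (endAction (res F')) (F'.obj M) where
  toFun x := HomMod.mk (elemM F' x)
  map_add' x y := by
    show F'.map (pt (x + y)) = F'.map (pt x) + F'.map (pt y)
    rw [← F'.map_add]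
    congr 1
    exact ModuleCat.hom_ext (LinearMap.ext fun (a : A) => smul_add a x y)
  map_smul' a x := by
    show F'.map (pt (a • x)) = F'.map (smulRing a).hom ≫ F'.map (pt x)
    rw [← F'.map_comp, smulRing_comp_pt]

variable [PreservesFiniteColimits (res F')]

/-- The universal property on all modules. -/
theorem bijective_unitM (M : ModuleCat.{u} A) (T : B) :
    Function.Bijective fun g : F'.obj M ⟶ T => post (endAction (res F')) g ∘ₗ unitM F' M := by
  refine ⟨fun g g' h => hom_ext_fp F' fun P p => ?_, fun L => ?_⟩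
  · refine (bijective_unitF (res F') P T).1 (LinearMap.ext fun x => ?_)
    show elemM F' x ≫ F'.map p ≫ g = elemM F' x ≫ F'.map p ≫ g'
    rw [← Category.assoc, ← Category.assoc, elemM_map]
    exact congrArg HomMod.out (LinearMap.congr_fun h _)
  · choose g hg using fun j : CostructuredArrow (fpProp A).ι M =>
      (bijective_unitF (res F') j.left T).2 (L ∘ₗ j.hom.hom)
    have hg' : ∀ j (x : j.left.obj), elemM F' x ≫ g j = (L (j.hom x)).out := fun j x =>
      congrArg HomMod.out (LinearMap.congr_fun (hg j) x)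
    have hnat : ∀ {i j : CostructuredArrow (fpProp A).ι M} (φ : i ⟶ j), F'.map φ.left.hom ≫ g j = g i := by
      intro i j φ
      refine (bijective_unitF (res F') i.left T).1 (LinearMap.ext fun x => ?_)
      show elemM F' x ≫ F'.map φ.left.hom ≫ g j = elemM F' x ≫ g i
      rw [← Category.assoc, elemM_map, hg', hg', ← CostructuredArrow.w φ]
      rfl
    let cc : Cocone (CostructuredArrow.proj (fpProp A).ι M ⋙ res F') :=
      { pt := T
        ι := { app := g, naturality := fun i j φ => (hnat φ).trans (Category.comp_id _).symm } }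
    refine ⟨(isPointwise F' M).desc cc, LinearMap.ext fun x => ?_⟩
    have h1 : (𝟙 _ ≫ F'.map (pt x)) ≫ (isPointwise F' M).desc cc = g (arrow (ring A) (pt x)) :=
      (isPointwise F' M).fac cc (arrow (ring A) (pt x))
    rw [Category.id_comp] at h1
    show elemM F' x ≫ (isPointwise F' M).desc cc = (L x).out
    rw [show elemM F' x = F'.map (pt x) from rfl, h1]
    have h2 := hg' (arrow (ring A) (pt x)) (1 : A)
    rw [show elemM F' (M := (ring A).obj) (1 : A) = 𝟙 _ from
      (congrArg F'.map (show pt (M := (ring A).obj) (1 : A) = 𝟙 _ by ext; simp)).trans (F'.map_id _)] at h2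
    refine ((Category.id_comp _).symm.trans h2).trans ?_
    show (L ((1 : A) • x)).out = _
    rw [one_smul]

/-- The extension of a right exact functor preserves finite colimits. -/
theorem preservesFiniteColimits_of_res : PreservesFiniteColimits F' where
  preservesFiniteColimits J _ _ := ⟨fun {D} => ⟨fun {c} hc => by
    let g : ∀ (s : Cocone (D ⋙ F')) (j : J), D.obj j →ₗ[A] HomMod (endAction (res F')) s.pt := fun s j =>
      post (endAction (res F')) (T' := s.pt) (s.ι.app j) ∘ₗ unitM F' (D.obj j)
    have hg : ∀ (s : Cocone (D ⋙ F')) {i j : J} (f : i ⟶ j), g s j ∘ₗ (D.map f).hom = g s i :=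
      fun s {i j} f => LinearMap.ext fun x => by
        show elemM F' (D.map f x) ≫ s.ι.app j = elemM F' x ≫ s.ι.app i
        rw [← elemM_map, Category.assoc]
        exact congrArg (elemM F' x ≫ ·) (s.w f)
    have ex := fun s : Cocone (D ⋙ F') =>
      existsUnique_desc hc (W := HomMod (endAction (res F')) s.pt) (g s) (fun {i j} f => by exact hg s f)
    choose d hd using fun s : Cocone (D ⋙ F') => (bijective_unitM F' c.pt s.pt).2 (ex s).exists.choose
    refine ⟨{
      desc := d
      fac := fun s j => (bijective_unitM F' _ _).1 (LinearMap.ext fun x => ?_)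
      uniq := fun s m hm => (bijective_unitM F' _ _).1 (Eq.trans ?_ (hd s).symm) }⟩
    · show elemM F' x ≫ F'.map (c.ι.app j) ≫ d s = elemM F' x ≫ s.ι.app j
      rw [← Category.assoc, elemM_map]
      exact (congrArg HomMod.out (LinearMap.congr_fun (hd s) _)).trans
        (congrArg HomMod.out (LinearMap.congr_fun ((ex s).exists.choose_spec j) x))
    · refine (ex s).unique (fun j => LinearMap.ext fun x => ?_) (ex s).exists.choose_spec
      show elemM F' (c.ι.app j x) ≫ m = elemM F' x ≫ s.ι.app j
      rw [← elemM_map, Category.assoc]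
      exact congrArg (elemM F' x ≫ ·) (hm j)⟩⟩

/-- Two natural transformations agreeing at the ring agree, and a map at the ring commuting with the
action extends. -/
theorem natTrans_classification (G : ModuleCat.{u} A ⥤ B) [PreservesFilteredColimitsOfSize.{u, u} G]
    [G.Additive] :
    (∀ t t' : F' ⟶ G, t.app (ring A).obj = t'.app (ring A).obj → t = t') ∧
    ∀ φ : F'.obj (ring A).obj ⟶ G.obj (ring A).obj,
      (∀ a : A, F'.map (smulRing a).hom ≫ φ = φ ≫ G.map (smulRing a).hom) →
      ∃ t : F' ⟶ G, t.app (ring A).obj = φ := by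
  refine ⟨fun t t' h => NatTrans.ext (funext fun M => ?_), fun φ hφ => ?_⟩
  · refine (bijective_unitM F' M _).1 (LinearMap.ext fun x => ?_)
    show F'.map (pt x) ≫ t.app M = F'.map (pt x) ≫ t'.app M
    rw [t.naturality, t'.naturality, h]
  · let L (M : ModuleCat.{u} A) : M →ₗ[A] HomMod (endAction (res F')) (G.obj M) :=
      { toFun := fun x => HomMod.mk (φ ≫ G.map (pt x))
        map_add' := fun x y => by
          show φ ≫ G.map (pt (x + y)) = φ ≫ G.map (pt x) + φ ≫ G.map (pt y)
          rw [← Preadditive.comp_add, ← G.map_add]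
          congr 2
          exact ModuleCat.hom_ext (LinearMap.ext fun (a : A) => smul_add a x y)
        map_smul' := fun a x => by
          show φ ≫ G.map (pt (a • x)) = F'.map (smulRing a).hom ≫ φ ≫ G.map (pt x)
          rw [← Category.assoc, hφ, Category.assoc, ← G.map_comp, smulRing_comp_pt] }
    choose t ht using fun M => (bijective_unitM F' M (G.obj M)).2 (L M)
    have ht' : ∀ (M : ModuleCat.{u} A) (x : M), elemM F' x ≫ t M = φ ≫ G.map (pt x) := fun M x =>
      congrArg HomMod.out (LinearMap.congr_fun (ht M) x)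
    refine ⟨⟨t, fun M N f => (bijective_unitM F' M _).1 (LinearMap.ext fun x => ?_)⟩, ?_⟩
    · show elemM F' x ≫ F'.map f ≫ t N = elemM F' x ≫ t M ≫ G.map f
      rw [← Category.assoc, elemM_map, ht', ← Category.assoc, ht', Category.assoc, ← G.map_comp, pt_comp]
    · have h := ht' (ring A).obj (1 : A)
      have h1 : pt (M := (ring A).obj) (1 : A) = 𝟙 _ := by ext; simp
      have hF : elemM F' (M := (ring A).obj) (1 : A) = 𝟙 _ := (congrArg F'.map h1).trans (F'.map_id _)
      have hG : G.map (pt (M := (ring A).obj) (1 : A)) = 𝟙 _ := (congrArg G.map h1).trans (G.map_id _)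
      rw [hF, hG] at h
      exact ((Category.id_comp _).symm.trans h).trans (Category.comp_id _)

end All

end Groth.FunMorFP
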